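import Groth.Prelude.Def_EGA4c
import Groth.Agent.Alg6.Sections
import Mathlib

/-!
# Necessity of the height condition for coherence of a direct image
-/

universe u

set_option autoImplicit false
set_option backward.isDefEq.respectTransparency false
set_option backward.isDefEq.respectTransparency.types false

open CategoryTheory AlgebraicGeometry Opposite

namespace Groth.Agent.H1CohPush

variable {A : Type u} [CommRing A] {J : Ideal A} {M : Type u} [AddCommGroup M] [Module A M]

/-- A small height gives a prime `q` in which `J` and any `g ∈ J` outside `p` are, locally, cofinal. -/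
theorem exists_prime [IsNoetherianRing A] (p : Ideal A) [p.IsPrime]
    (h : ¬ (2 : ℕ∞) ≤ (J.map (Ideal.Quotient.mk p)).height) :
    ∃ q : Ideal A, q.IsPrime ∧ p ≤ q ∧ J ≤ q ∧
      ∀ r : Ideal A, r.IsPrime → p < r → r ≤ q → r = q := by
  rw [Ideal.height_eq_inf_minimalPrimes, le_iInf₂_iff] at h
  push Not at h
  obtain ⟨Q, hQ, hlt⟩ := h
  haveI := hQ.1.1
  refine ⟨Q.comap (Ideal.Quotient.mk p), inferInstance, fun x hx => ?_, fun x hx => ?_, ?_⟩
  · show Ideal.Quotient.mk p x ∈ Q
    rw [Ideal.Quotient.eq_zero_iff_mem.mpr hx]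
    exact Q.zero_mem
  · exact hQ.1.2 (Ideal.mem_map_of_mem _ hx)
  · intro r hr hpr hrq
    by_contra hne
    have hrq' : r < Q.comap (Ideal.Quotient.mk p) := lt_of_le_of_ne hrq hne
    let r' : Ideal (A ⧸ p) := r.map (Ideal.Quotient.mk p)
    haveI := hr
    haveI : r'.IsPrime := Ideal.map_isPrime_of_surjective Ideal.Quotient.mk_surjective
      (by rw [Ideal.mk_ker]; exact hpr.le)
    have hc : r'.comap (Ideal.Quotient.mk p) = r := by
      rw [Ideal.comap_map_of_surjective _ Ideal.Quotient.mk_surjective, ← RingHom.ker_eq_comap_bot, Ideal.mk_ker,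
        sup_eq_left.mpr hpr.le]
    have h1 : (⊥ : Ideal (A ⧸ p)) < r' := by
      refine bot_lt_iff_ne_bot.mpr fun hb => hpr.ne ?_
      rw [← hc, hb, ← RingHom.ker_eq_comap_bot, Ideal.mk_ker]
    have h2 : r' < Q := by
      refine lt_of_le_of_ne (Ideal.map_le_iff_le_comap.mpr hrq) fun hb => hrq'.ne ?_
      rw [← hc, hb]
    have e1 := Ideal.height_add_one_le_of_lt_of_isPrime h1
    have e2 := Ideal.height_add_one_le_of_lt_of_isPrime h2
    rw [Ideal.height_bot, zero_add] at e1
    exact absurd (le_trans (le_trans (by norm_num) (add_le_add_left e1 1)) e2) (not_le.mpr hlt)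

/-- Near `q`, powers of `q` lie in `p + (g^n)`. -/
theorem exists_mul_pow_mem [IsNoetherianRing A] (p q : Ideal A) [p.IsPrime] [q.IsPrime] (hpq : p ≤ q)
    (hmin : ∀ r : Ideal A, r.IsPrime → p < r → r ≤ q → r = q) (g : A) (hg : g ∉ p) (n : ℕ) :
    ∃ t ∉ q, ∃ m : ℕ, ∀ h ∈ q, t * h ^ m ∈ p ⊔ Ideal.span {g ^ n} := by
  let B := Localization.AtPrime q
  let I : Ideal A := p ⊔ Ideal.span {g ^ n}
  have hrad : IsLocalRing.maximalIdeal B ≤ (I.map (algebraMap A B)).radical := by
    rw [Ideal.radical_eq_sInf]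
    refine le_sInf ?_
    rintro P ⟨hIP, hP⟩
    haveI := hP
    let r := P.comap (algebraMap A B)
    have hIr : I ≤ r := le_trans Ideal.le_comap_map (Ideal.comap_mono hIP)
    have hrq : r ≤ q := by
      refine le_of_le_of_eq (Ideal.comap_mono (IsLocalRing.le_maximalIdeal hP.ne_top)) ?_
      exact IsLocalization.AtPrime.comap_maximalIdeal B q
    have hpr : p < r := by
      refine lt_of_le_of_ne (le_trans le_sup_left hIr) fun hb => hg ?_
      rw [hb]
      exact Ideal.IsPrime.mem_of_pow_mem inferInstance n (hIr (Submodule.mem_sup_right (Ideal.mem_span_singleton_self _)))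
    have hr := hmin r inferInstance hpr hrq
    rw [← IsLocalization.map_under q.primeCompl B P]
    show IsLocalRing.maximalIdeal B ≤ Ideal.map (algebraMap A B) r
    rw [hr, IsLocalization.AtPrime.map_eq_maximalIdeal]
  obtain ⟨m, hm⟩ := Ideal.exists_pow_le_of_le_radical_of_fg hrad (IsNoetherian.noetherian _)
  have key : ∀ x ∈ q ^ m, ∃ t ∉ q, t * x ∈ I := by
    intro x hx
    have h1 : algebraMap A B x ∈ I.map (algebraMap A B) := hm (by
      rw [← IsLocalization.AtPrime.map_eq_maximalIdeal q B, ← Ideal.map_pow]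
      exact Ideal.mem_map_of_mem _ hx)
    obtain ⟨⟨a, s⟩, has⟩ := (IsLocalization.mem_map_algebraMap_iff q.primeCompl B).mp h1
    rw [← map_mul] at has
    obtain ⟨c, hc⟩ := (IsLocalization.eq_iff_exists q.primeCompl B).mp has
    refine ⟨c * s, (c * s).2, ?_⟩
    rw [mul_assoc, mul_comm (s : A) x, hc]
    exact I.mul_mem_left _ a.2
  classical
  obtain ⟨S, hS⟩ := IsNoetherian.noetherian (q ^ m)
  choose! t ht htI using key
  refine ⟨∏ x ∈ S, t x, fun hmem => ?_, m, fun h hh => ?_⟩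
  · obtain ⟨x, hx, hxq⟩ := (Ideal.IsPrime.prod_mem_iff).mp hmem
    exact ht x (hS ▸ Submodule.subset_span hx) hxq
  · have hle : q ^ m ≤ I.colon {∏ x ∈ S, t x} := by
      rw [← hS, Submodule.span_le]
      intro x hx
      rw [SetLike.mem_coe, Submodule.mem_colon_singleton, smul_eq_mul, ← Finset.mul_prod_erase S t hx, ← mul_assoc,
        mul_comm x (t x)]
      exact I.mul_mem_right _ (htI x (hS ▸ Submodule.subset_span hx))
    have := Submodule.mem_colon_singleton.mp (hle (Ideal.pow_mem_pow hh m))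
    rwa [smul_eq_mul, mul_comm] at this

/-- Sections over the complement of `V(J)` with prescribed value `t e / g ^ n`. -/
theorem exists_section (p : Ideal A) [p.IsPrime] (e : M) (he : ∀ a, a • e = 0 ↔ a ∈ p) (q : Ideal A) (hJq : J ≤ q)
    (g : A) (hgJ : g ∈ J) (hg : g ∉ p) (n : ℕ) (hJp : ¬ J ≤ p)
    (ht : ∃ t ∉ q, ∃ m : ℕ, ∀ h ∈ q, t * h ^ m ∈ p ⊔ Ideal.span {g ^ n}) :
    ∃ t ∉ q, ∃ s : (EGA4.tildeOf A M).val.obj (op (EGA4.openCompl A J)),
      s.1 ⟨(⟨p, ‹_›⟩ : PrimeSpectrum A), hJp⟩ =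
        LocalizedModule.mk (t • e)
          (⟨g ^ n, fun hb => hg (Ideal.IsPrime.mem_of_pow_mem ‹p.IsPrime› n hb)⟩ : p.primeCompl) := by
  classical
  obtain ⟨t, htq, m, hm⟩ := ht
  have hdec : ∀ h ∈ J, ∃ a, t * h ^ m - g ^ n * a ∈ p := by
    intro h hh
    obtain ⟨x, hx, y, hy, hxy⟩ := Submodule.mem_sup.mp (hm h (hJq hh))
    obtain ⟨a, rfl⟩ := Ideal.mem_span_singleton'.mp hy
    exact ⟨a, by rw [← hxy]; convert hx using 1; ring⟩
  choose! a ha using hdec
  have hpick : ∀ x : EGA4.openCompl A J, ∃ h ∈ J, h ∉ (x.1 : PrimeSpectrum A).asIdeal := fun x =>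
    SetLike.not_le_iff_exists.mp x.2
  choose pick hpickJ hpickx using hpick
  have hcomp : ∀ (h₁ h₂ : A), h₁ ∈ J → h₂ ∈ J → h₂ ^ m • (a h₁ • e) = h₁ ^ m • (a h₂ • e) := by
    intro h₁ h₂ h1 h2
    rw [smul_smul, smul_smul, ← sub_eq_zero, ← sub_smul, he]
    refine ((Ideal.IsPrime.mem_or_mem ‹p.IsPrime› (x := g ^ n) ?_).resolve_left
      fun hb => hg (Ideal.IsPrime.mem_of_pow_mem ‹_› n hb))
    have := p.sub_mem (p.mul_mem_left (h₁ ^ m) (ha h₂ h2)) (p.mul_mem_left (h₂ ^ m) (ha h₁ h1))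
    convert this using 1
    ring
  let f : (x : EGA4.openCompl A J) → LocalizedModule (x.1 : PrimeSpectrum A).asIdeal.primeCompl M := fun x =>
    LocalizedModule.mk (a (pick x) • e)
      ⟨pick x ^ m, fun hb => hpickx x (Ideal.IsPrime.mem_of_pow_mem inferInstance m hb)⟩
  have hf : (StructureSheaf.isLocallyFraction A M).pred f := by
    intro x
    refine ⟨EGA4.openCompl A J ⊓ PrimeSpectrum.basicOpen (pick x), ⟨x.2, hpickx x⟩,
      CategoryTheory.homOfLE inf_le_left, a (pick x) • e, pick x ^ m, fun y => ?_⟩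
    refine ⟨fun hb => y.2.2 (Ideal.IsPrime.mem_of_pow_mem inferInstance m hb), ?_⟩
    refine LocalizedModule.mk_eq.mpr ⟨1, ?_⟩
    simp only [one_smul, Submonoid.smul_def]
    exact hcomp _ _ (hpickJ _) (hpickJ _)
  refine ⟨t, htq, ⟨f, hf⟩, ?_⟩
  let x₀ : EGA4.openCompl A J := ⟨(⟨p, ‹_›⟩ : PrimeSpectrum A), hJp⟩
  show f x₀ = _
  refine LocalizedModule.mk_eq.mpr ⟨1, ?_⟩
  simp only [one_smul, Submonoid.smul_def]
  rw [smul_smul, smul_smul, ← sub_eq_zero, ← sub_smul, he]
  have := ha _ (hpickJ x₀)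
  convert p.neg_mem this using 1
  ring

/-- The values at a point of the sections form a finitely generated module. -/
theorem exists_fg_values (h : EGA4.IsCoherentPushCompl A J M) (x : EGA4.openCompl A J) :
    ∃ N : Submodule A (LocalizedModule (x.1 : PrimeSpectrum A).asIdeal.primeCompl M), N.FG ∧
      ∀ s : (EGA4.tildeOf A M).val.obj (op (EGA4.openCompl A J)), s.1 x ∈ N := by
  obtain ⟨G, hG⟩ := h.fg_top
  classical
  refine ⟨Submodule.span A ↑(G.image fun s => s.1 x), ⟨_, rfl⟩, fun s => ?_⟩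
  have hs : s ∈ (⊤ : Submodule ((Spec (CommRingCat.of A)).ringCatSheaf.obj.obj (op ⊤))
    ((ModuleCat.restrictScalars ((Spec (CommRingCat.of A)).ringCatSheaf.obj.map
        (homOfLE (le_top : EGA4.openCompl A J ≤ ⊤)).op).hom).obj
      ((EGA4.tildeOf A M).val.obj (op (EGA4.openCompl A J))))) := trivial
  rw [← hG] at hs
  induction hs using Submodule.span_induction with
  | mem y hy => exact Submodule.subset_span (Finset.mem_image_of_mem _ hy)
  | zero => exact Submodule.zero_mem _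
  | add y z _ _ hy hz => exact Submodule.add_mem _ hy hz
  | smul c y _ hy =>
    obtain ⟨b, rfl⟩ := (Groth.Agent.Alg6.const_one_bijective A A).2 c
    refine Eq.mpr ?_ (Submodule.smul_mem _ b hy)
    congr 1
    show (LocalizedModule.mk b 1 : LocalizedModule (x.1 : PrimeSpectrum A).asIdeal.primeCompl A) • y.1 x = b • y.1 x
    exact IsScalarTower.algebraMap_smul _ b (y.1 x)

end Groth.Agent.H1CohPush
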