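import Groth.Agent.H1CohPush.Descent
import Groth.Agent.LC.AssFilt
import Groth.Agent.LC.Finiteness
import Groth.Agent.LC.TopDim
import Groth.Agent.LC.CohDerived
import Groth.Prelude.Def_Wider
import Mathlib

/-!
# Finiteness of `H¹` from finiteness of the sections over the complement
-/

universe u

set_option autoImplicit false
set_option backward.isDefEq.respectTransparency false
set_option backward.isDefEq.respectTransparency.types false

open CategoryTheory AlgebraicGeometry Opposite

namespace Groth.Agent.H1CohPush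

variable {A : Type u} [CommRing A] [IsNoetherianRing A] {J : Ideal A} {M : Type u} [AddCommGroup M] [Module A M]

theorem torsion_sec_eq_bot : DRing.torsionSub J (Sec J M) = ⊥ := by
  rw [eq_bot_iff]
  rintro g ⟨n, hn⟩
  rw [Submodule.mem_bot]
  refine Subtype.ext (funext fun x => ?_)
  obtain ⟨c, hc, hcx⟩ := SetLike.not_le_iff_exists.mp (show ¬ J ≤ (x.1 : PrimeSpectrum A).asIdeal from x.2)
  refine smul_left_cancel_at x.1 (c := c ^ n) (fun h => hcx (x.1.isPrime.mem_of_pow_mem n h)) ?_
  show c ^ n • g.1 x = c ^ n • 0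
  rw [smul_zero]
  exact congrFun (congrArg Subtype.val (hn _ (Ideal.pow_mem_pow hc n))) x

theorem torsion_quot_sec (x : A) (hxreg : IsSMulRegular (Sec J M) x) : DRing.torsionSub J (QuotSMulTop x (Sec J M)) = ⊥ := by
  rw [eq_bot_iff]
  intro z ⟨n, hn⟩
  obtain ⟨g, rfl⟩ := Submodule.Quotient.mk_surjective _ z
  have hdiv : ∀ c ∈ J, ∃ u : Sec J M, c ^ n • g = x • u := by
    intro c hc
    have h := hn _ (Ideal.pow_mem_pow hc n)
    rw [← Submodule.Quotient.mk_smul, Submodule.Quotient.mk_eq_zero] at h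
    obtain ⟨u, -, hu⟩ := h
    exact ⟨u, hu.symm⟩
  choose! u hu using hdiv
  classical
  have hpick : ∀ y : EGA4.openCompl A J, ∃ c ∈ J, c ∉ (y.1 : PrimeSpectrum A).asIdeal := fun y =>
    SetLike.not_le_iff_exists.mp (show ¬ J ≤ (y.1 : PrimeSpectrum A).asIdeal from y.2)
  choose pick hpick₁ hpick₂ using hpick
  have hreg : ∀ y : EGA4.openCompl A J, pick y ^ n ∉ (y.1 : PrimeSpectrum A).asIdeal :=
    fun y h => hpick₂ y (y.1.isPrime.mem_of_pow_mem n h)
  have hunit : ∀ y : EGA4.openCompl A J, IsUnit (algebraMap A (Module.End A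
      (LocalizedModule (y.1 : PrimeSpectrum A).asIdeal.primeCompl M)) (pick y ^ n)) := fun y =>
    IsLocalizedModule.map_units (LocalizedModule.mkLinearMap (y.1 : PrimeSpectrum A).asIdeal.primeCompl M)
      (⟨_, hreg y⟩ : (y.1 : PrimeSpectrum A).asIdeal.primeCompl)
  choose v hv using fun y => ((Module.End.isUnit_iff _).mp (hunit y)).2 ((u (pick y)).1 y)
  have hxv : ∀ y, x • v y = g.1 y := fun y => by
    refine smul_left_cancel_at y.1 (hreg y) ?_
    have h1 := congrFun (congrArg Subtype.val (hu _ (hpick₁ y))) y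
    show pick y ^ n • (x • v y) = pick y ^ n • g.1 y
    rw [smul_comm, show pick y ^ n • v y = (u (pick y)).1 y from hv y]
    exact h1.symm
  have hx : ∀ (y : EGA4.openCompl A J) (w : LocalizedModule (y.1 : PrimeSpectrum A).asIdeal.primeCompl M),
      x • w = 0 → w = 0 := by
    intro y w hw
    induction w using LocalizedModule.induction_on with
    | _ m t =>
    rw [LocalizedModule.smul'_mk, ← LocalizedModule.zero_mk (1 : (y.1 : PrimeSpectrum A).asIdeal.primeCompl)] at hw
    obtain ⟨s, hs⟩ := LocalizedModule.mk_eq.mp hw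
    simp only [Submonoid.smul_def, OneMemClass.coe_one, one_smul, smul_zero] at hs
    have h0 : const J M ((s : A) • m) = 0 := hxreg (by
      show x • const J M ((s : A) • m) = x • 0
      rw [smul_zero, ← map_smul, smul_comm, hs, map_zero])
    have h1 : (LocalizedModule.mk ((s : A) • m) 1 : LocalizedModule (y.1 : PrimeSpectrum A).asIdeal.primeCompl M) = 0 :=
      congrFun (congrArg Subtype.val h0) y
    rw [← LocalizedModule.smul'_mk] at h1
    refine smul_left_cancel_at y.1 (c := (t : A) * s) (y.1.isPrime.mul_notMem t.2 s.2) ?_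
    rw [smul_zero, mul_comm, mul_smul, LocalizedModule.smul'_mk (t : A),
      show LocalizedModule.mk ((t : A) • m) t = LocalizedModule.mk m 1 from LocalizedModule.mk_cancel t m, h1]
  have hcancel : ∀ (y : EGA4.openCompl A J) (a b : LocalizedModule (y.1 : PrimeSpectrum A).asIdeal.primeCompl M),
      x • a = x • b → a = b := fun y a b h => sub_eq_zero.mp (hx y _ (by rw [smul_sub, h, sub_self]))
  have hvpred : v ∈ Sec J M := by
    intro y
    obtain ⟨V, hyV, i, r, s, hrs⟩ := (u (pick y)).2 y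
    refine ⟨V ⊓ PrimeSpectrum.basicOpen (pick y), ⟨hyV, hpick₂ y⟩,
      CategoryTheory.homOfLE (inf_le_left.trans i.le), r, pick y ^ n * s, fun z => ?_⟩
    obtain ⟨hs, hzs⟩ := hrs ⟨z.1, z.2.1⟩
    have hcz : pick y ^ n ∉ (z.1 : PrimeSpectrum A).asIdeal := fun h => z.2.2 (z.1.isPrime.mem_of_pow_mem n h)
    refine ⟨z.1.isPrime.mul_notMem hcz hs, ?_⟩
    let z' : EGA4.openCompl A J := ⟨z.1, (i.le z.2.1 : z.1 ∈ EGA4.openCompl A J)⟩
    refine hcancel z' _ _ ((hxv z').trans (smul_left_cancel_at z.1 hcz ?_))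
    have h1 : pick y ^ n • g.1 z' = x • (u (pick y)).1 z' := congrFun (congrArg Subtype.val (hu _ (hpick₁ y))) z'
    rw [h1, smul_comm]
    congr 1
    have h2 : (u (pick y)).1 z' = LocalizedModule.mk r ⟨s, hs⟩ := hzs
    rw [h2]
    symm
    rw [LocalizedModule.smul'_mk]
    refine LocalizedModule.mk_eq.mpr ⟨1, ?_⟩
    simp only [one_smul, Submonoid.smul_def, smul_smul]
    congr 1
    ring
  rw [Submodule.mem_bot, Submodule.Quotient.mk_eq_zero]
  exact ⟨⟨v, hvpred⟩, trivial, Subtype.ext (funext hxv)⟩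

theorem subsingleton_H1_sec [Module.Finite A (Sec J M)] : Subsingleton (LocCoh.H J 1 (Sec J M)) := by
  obtain ⟨x, hx, hreg⟩ := LC.exists_regular_of_torsionFree J (Sec J M) torsion_sec_eq_bot
  obtain ⟨δ, hδ, -⟩ := LC.exact_smul J hreg 0
  haveI := (LC.subsingleton_H0_iff J (ModuleCat.of A (QuotSMulTop x (Sec J M)))).2 (torsion_quot_sec x hreg)
  refine ⟨fun a b => ?_⟩
  suffices ∀ z : LocCoh.H J 1 (Sec J M), z = 0 by rw [this a, this b]
  intro z
  obtain ⟨n, hn⟩ := LC.isPowerTorsion_obj J 1 (ModuleCat.of A (Sec J M)) z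
  have hxn : x ^ n • z = 0 := hn _ (Ideal.pow_mem_pow hx n)
  clear hn
  induction n generalizing z with
  | zero => rwa [pow_zero, one_smul] at hxn
  | succ n ih =>
    rw [pow_succ', mul_smul] at hxn
    obtain ⟨w, hw⟩ := (hδ _).1 hxn
    exact ih z (by rw [← hw, Subsingleton.elim w 0, map_zero])

/-- Finiteness of the sections gives finiteness of `H¹`. -/
theorem finite_H1 [Module.Finite A M] (h : Module.Finite A (Sec J M)) : Module.Finite A (LocCoh.H J 1 M) := by
  haveI := h
  have hle : DRing.torsionSub J M ≤ LinearMap.ker (const J M) := by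
    intro m ⟨n, hn⟩
    have h0 : const J M m ∈ DRing.torsionSub J (Sec J M) := ⟨n, fun a ha => by rw [← map_smul, hn a ha, map_zero]⟩
    rwa [torsion_sec_eq_bot, Submodule.mem_bot] at h0
  let f := (DRing.torsionSub J M).liftQ (const J M) hle
  have hf : Function.Injective f := by
    rw [← LinearMap.ker_eq_bot]
    refine Submodule.ker_liftQ_eq_bot _ _ _ fun m hm => ?_
    obtain ⟨S, hS⟩ := IsNoetherian.noetherian J
    choose N hN using fun c : S => exists_pow_smul_eq_zero m hm (hS ▸ Ideal.subset_span c.2 : (c : A) ∈ J)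
    obtain ⟨K, hK⟩ := Ideal.exists_pow_le_of_le_radical_of_fg (I := J)
      (J := LinearMap.ker (LinearMap.toSpanSingleton A M m)) (by
        conv_lhs => rw [← hS]
        rw [Submodule.span_le]
        exact fun c hc => ⟨N ⟨c, hc⟩, hN ⟨c, hc⟩ _ le_rfl⟩) (IsNoetherian.noetherian J)
    exact ⟨K, fun a ha => hK ha⟩
  haveI : Module.Finite A (LocCoh.H J 1 (Sec J M)) := haveI := subsingleton_H1_sec (J := J) (M := M); inferInstance
  haveI := LC.finite_H1_of_injective J f hf inferInstance
  exact Module.Finite.equiv (LinearEquiv.ofBijective _ (LC.map_mkQ_bijective J M 0)).symm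

/-- Long chains give height of the image ideal. -/
theorem height_map_of_chain {A : Type u} [CommRing A] (p : PrimeSpectrum A) (I : Ideal A) (k : ℕ∞)
    (h : ∀ (q : PrimeSpectrum A) (hpq : p ≤ q), I ≤ q.asIdeal → k ≤ Order.height (⟨q, hpq⟩ : Set.Ici p)) :
    k ≤ (I.map (Ideal.Quotient.mk p.asIdeal)).height := by
  rw [Ideal.height_eq_inf_minimalPrimes, le_iInf₂_iff]
  intro Q hQ
  haveI := hQ.1.1
  let π := Ideal.Quotient.mk p.asIdeal
  let q : PrimeSpectrum A := ⟨Q.comap π, inferInstance⟩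
  have hpq : p ≤ q := fun x hx => by
    show π x ∈ Q
    rw [Ideal.Quotient.eq_zero_iff_mem.mpr hx]
    exact Q.zero_mem
  refine (h q hpq (Ideal.map_le_iff_le_comap.mp hQ.1.2)).trans ?_
  rw [show Q.height = (⟨Q, inferInstance⟩ : PrimeSpectrum (A ⧸ p.asIdeal)).asIdeal.height from rfl,
    PrimeSpectrum.height_eq_orderHeight]
  let φ : Set.Ici p → PrimeSpectrum (A ⧸ p.asIdeal) := fun r =>
    ⟨r.1.asIdeal.map π, Ideal.map_isPrime_of_surjective Ideal.Quotient.mk_surjective (by rw [Ideal.mk_ker]; exact r.2)⟩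
  have hφ : ∀ r : Set.Ici p, (φ r).asIdeal.comap π = r.1.asIdeal := fun r => by
    show (r.1.asIdeal.map π).comap π = _
    rw [Ideal.comap_map_of_surjective _ Ideal.Quotient.mk_surjective, ← RingHom.ker_eq_comap_bot, Ideal.mk_ker]
    exact sup_eq_left.mpr r.2
  have hmono : StrictMono φ := fun a b hab => by
    refine lt_of_le_of_ne (Ideal.map_mono hab.le) fun he => hab.ne (Subtype.ext (PrimeSpectrum.ext ?_))
    rw [← hφ a, ← hφ b, he]
  have hφq : φ ⟨q, hpq⟩ = ⟨Q, inferInstance⟩ :=
    PrimeSpectrum.ext (Ideal.map_comap_of_surjective π Ideal.Quotient.mk_surjective Q)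
  exact (Order.height_le_height_apply_of_strictMono φ hmono _).trans_eq (by rw [hφq])

end Groth.Agent.H1CohPush
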