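import Groth.Agent.H1CohPush.Basic
import Groth.Agent.ZClosLib.HullIff
import Groth.Agent.SecFin.Normal
import Mathlib

/-!
# Sufficiency of the height condition for coherence of a direct image
-/

universe u

set_option autoImplicit false
set_option backward.isDefEq.respectTransparency false
set_option backward.isDefEq.respectTransparency.types false

open CategoryTheory AlgebraicGeometry Opposite

namespace Groth.Agent.H1CohPush

theorem isUniversallyCatenary_quotient {A : Type u} [CommRing A] (hA : CAlg.IsUniversallyCatenary A) (q : Ideal A) :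
    CAlg.IsUniversallyCatenary (A ⧸ q) := by
  haveI := hA.1
  refine ⟨inferInstance, fun S _ _ hS => ?_⟩
  letI : Algebra A S := ((algebraMap (A ⧸ q) S).comp (algebraMap A (A ⧸ q))).toAlgebra
  haveI : IsScalarTower A (A ⧸ q) S := IsScalarTower.of_algebraMap_eq fun _ => rfl
  exact hA.2 S (Algebra.FiniteType.trans (S := A ⧸ q) inferInstance hS)

theorem heightOneHullFinite_quotient {A : Type u} [CommRing A] [IsNoetherianRing A]
    (hA : CAlg.IsUniversallyCatenary A) (hJ : CAlg.IsUniversallyJapanese A) (q : Ideal A) [q.IsPrime] :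
    EGA4.HeightOneHullFinite (A ⧸ q) :=
  SecFin.heightOneHullFinite (A ⧸ q) (isUniversallyCatenary_quotient hA q)
    (hJ (A ⧸ q) inferInstance (FractionRing (A ⧸ q)) inferInstance)

variable {A : Type u} [CommRing A] (J : Ideal A) (M : Type u) [AddCommGroup M] [Module A M]

/-- The sections over the complement of `V(J)`, as a module over the ring. -/
abbrev Sec : Submodule A ((x : EGA4.openCompl A J) → LocalizedModule (x.1 : PrimeSpectrum A).asIdeal.primeCompl M) :=
  StructureSheaf.sectionsSubmodule M (EGA4.openCompl A J)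

/-- The constant sections. -/
noncomputable def const : M →ₗ[A] Sec J M :=
  LinearMap.codRestrict (Sec J M)
    (LinearMap.pi fun x => LocalizedModule.mkLinearMap (x.1 : PrimeSpectrum A).asIdeal.primeCompl M) fun m x =>
    ⟨EGA4.openCompl A J, x.2, 𝟙 _, m, 1, fun y => ⟨fun h => y.1.isPrime.ne_top ((Ideal.eq_top_iff_one _).2 h), rfl⟩⟩

theorem isCoherentPushCompl_of_finite (h : Module.Finite A (Sec J M)) : EGA4.IsCoherentPushCompl A J M := by
  classical
  let T := ((ModuleCat.restrictScalars ((Spec (CommRingCat.of A)).ringCatSheaf.obj.map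
    (homOfLE (le_top : EGA4.openCompl A J ≤ ⊤)).op).hom).obj
      ((EGA4.tildeOf A M).val.obj (op (EGA4.openCompl A J))) : ModuleCat.{u} _)
  let toT : Sec J M → T := fun v => (⟨v.1, v.2⟩ : (EGA4.tildeOf A M).val.obj (op (EGA4.openCompl A J)))
  obtain ⟨G, hG⟩ := h.fg_top
  refine ⟨⟨G.image toT, eq_top_iff.mpr fun t _ => ?_⟩⟩
  obtain ⟨v, rfl⟩ : ∃ v, toT v = t := ⟨⟨t.1, t.2⟩, rfl⟩
  have hv : v ∈ Submodule.span A (↑G : Set (Sec J M)) := hG ▸ Submodule.mem_top
  induction hv using Submodule.span_induction with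
  | mem z hz => exact Submodule.subset_span (Finset.mem_image_of_mem toT hz)
  | zero => exact (show toT 0 = 0 from Subtype.ext rfl) ▸ Submodule.zero_mem _
  | add a b _ _ ha hb =>
    rw [show toT (a + b) = toT a + toT b from Subtype.ext rfl]
    exact Submodule.add_mem _ (ha trivial) (hb trivial)
  | smul c a _ ha =>
    let σ : (Spec (CommRingCat.of A)).ringCatSheaf.obj.obj (op ⊤) :=
      StructureSheaf.toOpenₗ A A (⊤ : TopologicalSpace.Opens (PrimeSpectrum.Top A)) c
    rw [show toT (c • a) = σ • toT a from Subtype.ext (funext fun x => by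
      show c • a.1 x = (LocalizedModule.mk c 1 : LocalizedModule (x.1 : PrimeSpectrum A).asIdeal.primeCompl A) • a.1 x
      exact (IsScalarTower.algebraMap_smul _ c (a.1 x)).symm)]
    exact Submodule.smul_mem _ σ (ha trivial)

/-- A power of `c` kills the difference between a section and a fraction representing it on `D(c)`. -/
theorem exists_pow_killing [IsNoetherianRing A] (g : Sec J M) (c : A) (r : M) (s : A)
    (h : ∀ z : EGA4.openCompl A J, c ∉ (z.1 : PrimeSpectrum A).asIdeal →
      ∃ hs : s ∉ (z.1 : PrimeSpectrum A).asIdeal, g.1 z = LocalizedModule.mk r ⟨s, hs⟩) :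
    ∃ N : ℕ, ∀ z : EGA4.openCompl A J,
      c ^ N • (s • g.1 z - LocalizedModule.mkLinearMap (z.1 : PrimeSpectrum A).asIdeal.primeCompl M r) = 0 := by
  classical
  let d : (z : EGA4.openCompl A J) → LocalizedModule (z.1 : PrimeSpectrum A).asIdeal.primeCompl M := fun z =>
    s • g.1 z - LocalizedModule.mkLinearMap _ M r
  have hloc : ∀ x : EGA4.openCompl A J, ∃ (O : TopologicalSpace.Opens (PrimeSpectrum A)), x.1 ∈ O ∧
      ∃ n : ℕ, ∀ z : EGA4.openCompl A J, z.1 ∈ O → ∀ N, n ≤ N → c ^ N • d z = 0 := by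
    intro x
    obtain ⟨V', hxV', i', b, t, hbt⟩ := g.2 x
    obtain ⟨_, ⟨e, rfl⟩, hxe, heV'⟩ :=
      PrimeSpectrum.isTopologicalBasis_basic_opens.exists_subset_of_mem_open hxV' V'.2
    let K : Ideal A := Submodule.annihilator (Submodule.span A {s • b - t • r})
    have hmem : ∀ a, a ∈ K ↔ a • (s • b - t • r) = 0 := fun a => Submodule.mem_annihilator_span_singleton _ a
    have hrad : e * c ∈ K.radical := by
      rw [Ideal.radical_eq_sInf, Submodule.mem_sInf]
      rintro P ⟨hKP, hP⟩
      by_contra hec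
      have he : e ∉ P := fun h' => hec (Ideal.mul_mem_right (I := P) _ h')
      have hc : c ∉ P := fun h' => hec (Ideal.mul_mem_left (I := P) _ h')
      let z : EGA4.openCompl A J := ⟨(⟨P, hP⟩ : PrimeSpectrum A), (i'.le (heV' he : (⟨P, hP⟩ : PrimeSpectrum A) ∈ V'))⟩
      obtain ⟨htz, hz1⟩ := hbt ⟨z.1, heV' he⟩
      obtain ⟨hsz, hz2⟩ := h z hc
      obtain ⟨w, hw⟩ := LocalizedModule.mk_eq.mp (hz1.symm.trans hz2)
      simp only [Submonoid.smul_def] at hw
      refine w.2 (hKP ((hmem _).mpr ?_))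
      rw [smul_sub, hw, sub_self]
    obtain ⟨n, hn⟩ := hrad
    refine ⟨PrimeSpectrum.basicOpen e, hxe, n, fun z hz N hN => ?_⟩
    obtain ⟨htz, hz1⟩ := hbt ⟨z.1, heV' hz⟩
    have hz1' : g.1 z = LocalizedModule.mk b ⟨t, htz⟩ := hz1
    show c ^ N • (s • g.1 z - LocalizedModule.mkLinearMap _ M r) = 0
    rw [hz1', LocalizedModule.mkLinearMap_apply, LocalizedModule.smul'_mk,
      sub_eq_add_neg, ← LocalizedModule.mk_neg, LocalizedModule.mk_add_mk, LocalizedModule.smul'_mk,
      ← LocalizedModule.zero_mk (1 : (z.1 : PrimeSpectrum A).asIdeal.primeCompl)]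
    refine LocalizedModule.mk_eq.mpr ⟨⟨e ^ n, fun h' => hz (z.1.isPrime.mem_of_pow_mem n h')⟩, ?_⟩
    simp only [Submonoid.smul_def, OneMemClass.coe_one, one_smul, smul_zero, smul_neg, ← sub_eq_add_neg]
    have := (hmem _).mp hn
    rw [show c ^ N = c ^ (N - n) * c ^ n by rw [← pow_add, Nat.sub_add_cancel hN], smul_smul,
      show e ^ n * (c ^ (N - n) * c ^ n) = c ^ (N - n) * (e * c) ^ n by rw [mul_pow]; ring, mul_smul, this, smul_zero]
  choose O hO n hn using hloc
  obtain ⟨T, hT⟩ := (TopologicalSpace.NoetherianSpace.isCompact (SetLike.coe (show TopologicalSpace.Opens (PrimeSpectrum A) from EGA4.openCompl A J))).elim_finite_subcover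
    (fun x : EGA4.openCompl A J => (O x : Set (PrimeSpectrum A))) (fun x => (O x).2)
    (fun x hx => Set.mem_iUnion.mpr ⟨⟨x, hx⟩, hO ⟨x, hx⟩⟩)
  refine ⟨T.sup n, fun z => ?_⟩
  obtain ⟨x, hx, hzx⟩ := Set.mem_iUnion₂.mp (hT z.2)
  exact hn x z hzx _ (Finset.le_sup hx)

/-- Coherence from finite generation of the closures of the prime cyclic pieces. -/
theorem isCoherentPushCompl_of_clo [IsNoetherianRing A] [Module.Finite A M]
    (hbase : ∀ y : PrimeSpectrum A, ¬ J ≤ y.asIdeal → y.asIdeal ∈ associatedPrimes A M →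
      ∀ (L : Type u) [AddCommGroup L] [Module A L] (f : (A ⧸ y.asIdeal) →ₗ[A] L)
        [IsLocalizedModule y.asIdeal.primeCompl f],
        (ZClosLib.Bound.Clo {y : PrimeSpectrum A | J ≤ y.asIdeal} f).FG) :
    EGA4.IsCoherentPushCompl A J M := by
  refine isCoherentPushCompl_of_finite J M ?_
  refine ZClosLib.Bound.finite_of_closure (W := {y : PrimeSpectrum A | J ≤ y.asIdeal})
    (fun y y' hy hle => le_trans (Set.mem_setOf.mp hy) hle) (const J M) ?_ ?_ ?_ ?_
  · intro g y hy
    obtain ⟨V, hyV, i, r, s, hrs⟩ := g.2 ⟨y, hy⟩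
    obtain ⟨_, ⟨c, rfl⟩, hyc, hcV⟩ := PrimeSpectrum.isTopologicalBasis_basic_opens.exists_subset_of_mem_open hyV V.2
    obtain ⟨hsy, -⟩ := hrs ⟨y, hyV⟩
    obtain ⟨N, hN⟩ := exists_pow_killing J M g c r s (fun z hz => by
      obtain ⟨hs, h⟩ := hrs ⟨z.1, hcV hz⟩
      exact ⟨hs, h⟩)
    refine ⟨c ^ N * s, fun h => ((y.isPrime.mem_or_mem h).elim (fun h' => hyc (y.isPrime.mem_of_pow_mem N h')) hsy),
      c ^ N • r, Subtype.ext (funext fun z => ?_)⟩
    show LocalizedModule.mkLinearMap _ M (c ^ N • r) = (c ^ N * s) • g.1 z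
    rw [map_smul, mul_smul, eq_comm, ← sub_eq_zero, ← smul_sub]
    exact hN z
  · intro m hm y hy
    have h0 : (LocalizedModule.mk m 1 : LocalizedModule y.asIdeal.primeCompl M) = 0 :=
      congrFun (congrArg Subtype.val hm) ⟨y, hy⟩
    obtain ⟨t, ht⟩ := LocalizedModule.mk_eq.mp (h0.trans (LocalizedModule.zero_mk (1 : y.asIdeal.primeCompl)).symm)
    exact ⟨t, t.2, by simpa [Submonoid.smul_def] using ht⟩
  · intro g hg
    refine Subtype.ext (funext fun x => ?_)
    obtain ⟨r, hr, hr0⟩ := hg x.1 x.2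
    have h1 : r • g.1 x = 0 := congrFun (congrArg Subtype.val hr0) x
    refine (IsLocalizedModule.map_units (LocalizedModule.mkLinearMap (x.1 : PrimeSpectrum A).asIdeal.primeCompl M)
      (⟨r, hr⟩ : (x.1 : PrimeSpectrum A).asIdeal.primeCompl) |> (Module.End.isUnit_iff _).mp).1 ?_
    simpa using h1
  · intro y hy hyass L _ _ f _
    exact hbase y hy hyass L f

/-- Coherence from finite height-one hulls. -/
theorem isCoherentPushCompl_of_hull [IsNoetherianRing A] [Module.Finite A M]
    (hull : ∀ (q : Ideal A) [q.IsPrime], EGA4.HeightOneHullFinite (A ⧸ q))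
    (hht : ∀ p ∈ associatedPrimes A M, ¬ J ≤ p → (2 : ℕ∞) ≤ (J.map (Ideal.Quotient.mk p)).height) :
    EGA4.IsCoherentPushCompl A J M := by
  refine isCoherentPushCompl_of_clo J M ?_
  intro y hy hyass L _ _ f _
  haveI : Module.Finite (A ⧸ y.asIdeal) (ZClosLib.hullAlg (A ⧸ y.asIdeal)) := by
    obtain ⟨B, hB, hBfin⟩ := hull y.asIdeal
    have h : B = ZClosLib.hullAlg (A ⧸ y.asIdeal) := SetLike.coe_injective hB
    exact h ▸ hBfin
  refine ZClosLib.clo_quotient_fg _ y.asIdeal (fun y' hy' _ => ?_) inferInstance L f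
  exact (hht _ hyass hy).trans (Ideal.height_mono (Ideal.map_mono hy'))

end Groth.Agent.H1CohPush
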