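import Groth.Agent.FormalFib6.Transfer
import Groth.Agent.FormalFib6.Quot
import Groth.Agent.FlatLoc6.FiberSelf
import Groth.Agent.FlatLoc6.FiberRing
import Groth.Agent.FlatLoc6.NormalAscent
import Groth.Agent.FlatLoc6.SerreNormal
import Groth.Agent.PopescuLib.Ratliff
import Groth.Agent.H1CohPush.Suff
import Groth.Agent.S0547
import Mathlib

/-!
# Associated primes of the completion under `(S₁)` formal fibres
-/

universe u

set_option autoImplicit false

open IsLocalRing TensorProduct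

namespace Groth.Agent.H1CohPush

theorem hasSk_one_of_isDomain (R : Type u) [CommRing R] [IsDomain R] [IsNoetherianRing R] :
    LocCoh.HasSk 1 R R := by
  rw [FlatLoc6.hasSk_self_iff]
  intro p _
  by_cases hp : p = ⊥
  · subst hp
    rw [Ideal.height_bot]
    simp
  refine (min_le_left _ _).trans ?_
  rw [Nat.cast_one, ← FlatLoc6.depth_self_atPrime, Alg6.one_le_depth_atPrime_iff (M := R) p]
  intro hass
  obtain ⟨hpp, z, hz⟩ := Alg6.mem_ass_iff.mp hass
  have hz0 : z ≠ 0 := fun h0 => hpp.ne_top ((Ideal.eq_top_iff_one _).mpr ((hz 1).mpr (by rw [h0, smul_zero])))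
  apply hp
  rw [eq_bot_iff]
  intro x hx
  have h2 := (hz x).mp hx
  rw [smul_eq_mul, mul_eq_zero] at h2
  exact Ideal.mem_bot.mpr (h2.resolve_right hz0)

/-- For a domain quotient of a universally catenary local ring with `(S₁)` formal fibres, the associated primes of
the completion all have the full dimension. -/
theorem ringKrullDim_quotient_ass {S : Type u} [CommRing S] [IsLocalRing S] [IsNoetherianRing S]
    (hS : CAlg.IsUniversallyCatenary S) (hF : EGA4.HasSnFormalFibres 1 S) (a : Ideal S) [a.IsPrime]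
    [IsLocalRing (S ⧸ a)] (K : Ideal (S ⧸ a)) (hK : K = maximalIdeal (S ⧸ a))
    (P : Ideal (AdicCompletion K (S ⧸ a))) (hP : P ∈ associatedPrimes (AdicCompletion K (S ⧸ a)) (AdicCompletion K (S ⧸ a))) :
    ringKrullDim (AdicCompletion K (S ⧸ a) ⧸ P) = ringKrullDim (S ⧸ a) := by
  subst hK
  haveI := FlatLoc6.isNoetherianRing_cpl S
  haveI := FlatLoc6.isNoetherianRing_cpl (S ⧸ a)
  haveI := FlatLoc6.faithfullyFlat_cpl (S ⧸ a)
  haveI := FlatLoc6.isLocalRing_cpl (S ⧸ a)
  have hsurj : Function.Surjective (algebraMap S (S ⧸ a)) := Ideal.Quotient.mk_surjective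
  obtain ⟨e⟩ := FormalFib6.exists_cplQuotEquiv S (S ⧸ a) hsurj
  have hfib : EGA4.HasSnFormalFibres 1 (S ⧸ a) := by
    intro p' _
    obtain ⟨e₁⟩ := FormalFib6.fiber_equiv_of_surjective S (EGA4.Cpl S) (S ⧸ a) hsurj p'
    haveI := FlatLoc6.isNoetherianRing_fiber (A := S) (B := EGA4.Cpl S) (p'.comap (algebraMap S (S ⧸ a)))
    exact FlatLoc6.hasSk_of_ringEquiv (e₁.trans (FormalFib6.fiberCongr e p').toRingEquiv) 1
      (hF (p'.comap (algebraMap S (S ⧸ a))))
  have hS1 : LocCoh.HasSk 1 (EGA4.Cpl (S ⧸ a)) (EGA4.Cpl (S ⧸ a)) := by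
    have hB := (FlatLoc6.hasSk_self_iff 1).mp (hasSk_one_of_isDomain (S ⧸ a))
    rw [FlatLoc6.hasSk_self_iff]
    intro q _
    exact FlatLoc6.sk_self_ascend 1 q (FlatLoc6.fib_le_of_fiber_hasSk 1 _ q rfl (hfib _)) (hB _)
  haveI : P.IsPrime := IsAssociatedPrime.isPrime (AssociatedPrimes.mem_iff.mp hP)
  have hmin : P ∈ minimalPrimes (EGA4.Cpl (S ⧸ a)) :=
    Ideal.height_eq_zero_iff.mp (FlatLoc6.height_eq_zero_of_mem_ass hS1 hP)
  obtain ⟨n, hn⟩ : ∃ n : ℕ, ringKrullDim (S ⧸ a) ≤ n := by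
    obtain ⟨n, hn⟩ := ENat.ne_top_iff_exists.mp (Ideal.height_ne_top_of_isPrime (I := maximalIdeal (S ⧸ a)))
    refine ⟨n, ?_⟩
    rw [← maximalIdeal_height_eq_ringKrullDim, ← hn]
    rfl
  exact (PopescuLib.Ratliff.isFormallyEquidim_of_dim_le n (S ⧸ a) (isUniversallyCatenary_quotient hS a) hn P hmin).trans
    (S0547.result (S ⧸ a))

end Groth.Agent.H1CohPush
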